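import Groth.Agent.H1GrSerre.Nat
import Mathlib.GroupTheory.QuotientGroup.Basic
import Groth.Prelude.Def_Wider

/-!
# The cokernel of `M → ⊕ Γ(Proj, M(n)~)` is `H^1_+(M)`
-/

set_option autoImplicit false
set_option linter.unusedSectionVars false
set_option backward.isDefEq.respectTransparency false
set_option backward.isDefEq.respectTransparency.types false

noncomputable section

universe u

open CategoryTheory CategoryTheory.Limits AlgebraicGeometry TopologicalSpace DirectSum Opposite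

namespace Groth.Agent.H1GrSerre

open Groth.Agent

section General

variable {R : Type u} [CommRing R] [IsNoetherianRing R] {σ σn : Type u} [SetLike σ R] [AddSubgroupClass σ R]
  [SetLike σn R] [AddSubgroupClass σn R]
variable {𝒜 : ℤ → σ} [GradedRing 𝒜] (𝒜n : ℕ → σn) [GradedRing 𝒜n] [hN : NatPart 𝒜 𝒜n]
variable {X : GrLC.GMod.{u} 𝒜} (E : GrLC.StarInjRes 𝒜 X.gr) (t : ℤ)

theorem exists_conn_data (s : Γ(T 𝒜n X t, (⊤ : (Proj 𝒜n).Opens))) :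
    ∃ (i : (E.X 0).carrier) (hi : i ∈ (E.X 0).gr t), (Tmap 𝒜n E.ε_grHom t).app ⊤ s = gsec 𝒜n hi ⊤ ∧
      E.d 0 i ∈ E.cocyc (GrSyz.irrel 𝒜) 1 := by
  obtain ⟨i, hi, hs⟩ := gsec_surjective 𝒜n (E.starInj 0) t ((Tmap 𝒜n E.ε_grHom t).app ⊤ s)
  refine ⟨i, hi, hs, ?_, (E.exact_succ 0).ge ⟨i, rfl⟩⟩
  have hex : Function.Exact E.ε (E.d 0) := LinearMap.exact_iff.2 E.exact_zero
  have h0 : (Tmap 𝒜n (E.d_grHom 0) t).app ⊤ (gsec 𝒜n hi ⊤) = gsec 𝒜n (zero_mem ((E.X 1).gr t)) ⊤ := by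
    rw [← hs]
    refine (congrArg (fun φ : T 𝒜n X t ⟶ T 𝒜n (E.X 1) t => φ.app ⊤ s)
      (Tmap_comp_eq_zero 𝒜n E.ε_grHom t (E.d_grHom 0) hex.apply_apply_eq_zero)).trans
      (GrModX.ext_val 𝒜n (pieces (E.X 1)) fun y => ?_)
    rw [val_gsec, LocalizedModule.zero_mk]
    rfl
  rw [Tmap_gsec] at h0
  simpa using (gsec_eq_gsec_iff 𝒜n _ _).1 h0

/-- The class in `H^1` of a global section. -/
def connFun (s : Γ(T 𝒜n X t, (⊤ : (Proj 𝒜n).Opens))) : E.H (GrSyz.irrel 𝒜) 1 :=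
  E.toH (GrSyz.irrel 𝒜) 1 ⟨E.d 0 (exists_conn_data 𝒜n E t s).choose,
    (exists_conn_data 𝒜n E t s).choose_spec.choose_spec.2⟩

theorem connFun_eq (s : Γ(T 𝒜n X t, (⊤ : (Proj 𝒜n).Opens))) {i : (E.X 0).carrier} (hi : i ∈ (E.X 0).gr t)
    (hs : (Tmap 𝒜n E.ε_grHom t).app ⊤ s = gsec 𝒜n hi ⊤) (hc : E.d 0 i ∈ E.cocyc (GrSyz.irrel 𝒜) 1) :
    connFun 𝒜n E t s = E.toH (GrSyz.irrel 𝒜) 1 ⟨E.d 0 i, hc⟩ := by
  obtain ⟨h₁, h₂, -⟩ := (exists_conn_data 𝒜n E t s).choose_spec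
  refine GrLib8.toH_eq_of (GrSyz.irrel 𝒜) ?_
  exact ⟨_ - i, (gsec_eq_gsec_iff 𝒜n h₁ hi).1 (h₂.symm.trans hs), map_sub (E.d 0) _ i⟩

theorem gsec_add {Y : GrLC.GMod.{u} 𝒜} {m m' : Y.carrier} (hm : m ∈ Y.gr t) (hm' : m' ∈ Y.gr t)
    (U : (Proj 𝒜n).Opens) : gsec 𝒜n (add_mem hm hm') U = gsec 𝒜n hm U + gsec 𝒜n hm' U :=
  GrModX.ext_val 𝒜n (pieces Y) fun y =>
    (LocalizedModule.mkLinearMap y.1.asHomogeneousIdeal.toIdeal.primeCompl Y.carrier).map_add m m'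

/-- The class in `H^1` of a global section, as an additive map. -/
def conn : Γ(T 𝒜n X t, (⊤ : (Proj 𝒜n).Opens)) →+ E.H (GrSyz.irrel 𝒜) 1 :=
  AddMonoidHom.mk' (connFun 𝒜n E t) fun s s' => by
    obtain ⟨i, hi, hs, hc⟩ := exists_conn_data 𝒜n E t s
    obtain ⟨i', hi', hs', hc'⟩ := exists_conn_data 𝒜n E t s'
    have hc'' : E.d 0 (i + i') ∈ E.cocyc (GrSyz.irrel 𝒜) 1 := by rw [map_add]; exact add_mem hc hc'
    rw [connFun_eq 𝒜n E t (s + s') (add_mem hi hi') (by rw [gsec_add, map_add, hs, hs']) hc'',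
      connFun_eq 𝒜n E t s hi hs hc, connFun_eq 𝒜n E t s' hi' hs' hc', ← map_add]
    exact congrArg _ (Subtype.ext (map_add (E.d 0) i i'))

theorem conn_mem (s : Γ(T 𝒜n X t, (⊤ : (Proj 𝒜n).Opens))) :
    conn 𝒜n E t s ∈ E.Hgr (GrSyz.irrel 𝒜) 1 t := by
  obtain ⟨i, hi, hs, hc⟩ := exists_conn_data 𝒜n E t s
  exact ⟨⟨E.d 0 i, hc⟩, E.d_grHom 0 t i hi, (connFun_eq 𝒜n E t s hi hs hc).symm⟩

theorem conn_gsec {x : X.carrier} (hx : x ∈ X.gr t) : conn 𝒜n E t (gsec 𝒜n hx ⊤) = 0 := by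
  have hex : Function.Exact E.ε (E.d 0) := LinearMap.exact_iff.2 E.exact_zero
  have h0 : E.d 0 (E.ε x) = 0 := hex.apply_apply_eq_zero x
  have hc : E.d 0 (E.ε x) ∈ E.cocyc (GrSyz.irrel 𝒜) 1 := by rw [h0]; exact zero_mem _
  refine (connFun_eq 𝒜n E t _ (E.ε_grHom t x hx) (Tmap_gsec 𝒜n E.ε_grHom t hx ⊤) hc).trans ?_
  rw [GrLib8.toH_eq_zero]
  show E.d 0 (E.ε x) ∈ _
  rw [h0]
  exact zero_mem _

theorem exists_of_conn_eq_zero (s : Γ(T 𝒜n X t, (⊤ : (Proj 𝒜n).Opens))) (h : conn 𝒜n E t s = 0) :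
    ∃ (x : X.carrier) (hx : x ∈ X.gr t), s = gsec 𝒜n hx ⊤ := by
  obtain ⟨i, hi, hs, hc⟩ := exists_conn_data 𝒜n E t s
  have h' : E.toH (GrSyz.irrel 𝒜) 1 ⟨E.d 0 i, hc⟩ = 0 := (connFun_eq 𝒜n E t s hi hs hc).symm.trans h
  obtain ⟨w, hw, hdw⟩ := (GrLib8.toH_eq_zero E _ 1 _).1 h'
  let wt : (E.X 0).carrier := (decompose (E.X 0).gr w t : (E.X 0).carrier)
  have hwt : wt ∈ GrLC.gam (GrSyz.irrel 𝒜).toIdeal (E.X 0).carrier :=
    GrLib8.isHomogeneous_gam (E.X 0).gr (GrSyz.irrel 𝒜) t hw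
  have hdwt : E.d 0 wt = E.d 0 i := by
    have h1 := GrLib8.map_decompose (E.X 0).gr (E.X 1).gr (E.d 0).toAddMonoidHom (E.d_grHom 0) w t
    have h2 : (decompose (E.X 1).gr (E.d 0 i) t : (E.X 1).carrier) = E.d 0 i :=
      decompose_of_mem_same _ (E.d_grHom 0 t i hi)
    simp only [LinearMap.toAddMonoidHom_coe] at h1
    rw [show E.d 0 w = E.d 0 i from hdw] at h1
    exact h1.trans h2
  obtain ⟨x, hx, hεx⟩ := GrLib8.exists_preimage_mem E.ε (GrLib8.isGrHomDeg_zero_iff.2 E.ε_grHom)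
    (sub_mem hi (SetLike.coe_mem (decompose (E.X 0).gr w t)))
    (E.exact_zero.le (LinearMap.mem_ker.2 (show E.d 0 (i - wt) = 0 by rw [map_sub, hdwt, sub_self])))
  rw [sub_zero] at hx
  refine ⟨x, hx, Tmap_app_injective 𝒜n E.ε_grHom t E.ε_injective ⊤ ?_⟩
  rw [hs, Tmap_gsec]
  refine (gsec_eq_gsec_iff 𝒜n _ _).2 ?_
  rw [hεx, sub_sub_cancel]
  exact hwt

theorem exists_conn_eq {y : E.H (GrSyz.irrel 𝒜) 1} (hy : y ∈ E.Hgr (GrSyz.irrel 𝒜) 1 t) :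
    ∃ s, conn 𝒜n E t s = y := by
  obtain ⟨z, hz, rfl⟩ := hy
  obtain ⟨i, hi, hdi⟩ := GrLib8.exists_preimage_mem (E.d 0) (GrLib8.isGrHomDeg_zero_iff.2 (E.d_grHom 0)) hz
    ((E.exact_succ 0).le z.2.2)
  rw [sub_zero] at hi
  have hex : Function.Exact E.ε (E.d 0) := LinearMap.exact_iff.2 E.exact_zero
  have hs : (Tmap 𝒜n (E.d_grHom 0) t).app ⊤ (gsec 𝒜n hi ⊤) = 0 := by
    rw [Tmap_gsec]
    have h0 : gsec 𝒜n (E.d_grHom 0 t i hi) ⊤ = gsec 𝒜n (zero_mem ((E.X 1).gr t)) ⊤ :=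
      (gsec_eq_gsec_iff 𝒜n _ _).2 (by rw [sub_zero, hdi]; exact z.2.1)
    refine h0.trans (GrModX.ext_val 𝒜n (pieces (E.X 1)) fun y => ?_)
    rw [val_gsec, LocalizedModule.zero_mk]
    rfl
  obtain ⟨w, hw⟩ := Tmap_lift 𝒜n E.ε_grHom t (E.d_grHom 0) E.ε_injective hex _ hs
  refine ⟨w, (connFun_eq 𝒜n E t w hi hw (by rw [hdi]; exact z.2)).trans ?_⟩
  exact congrArg _ (Subtype.ext hdi)

end General

variable {A : Type u} [CommRing A] [IsNoetherianRing A] {σ : Type u} [SetLike σ A] [AddSubgroupClass σ A]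
  (𝒜 : ℕ → σ) [GradedRing 𝒜]
variable {M τ : Type u} [AddCommGroup M] [Module A M] [SetLike τ M] [AddSubgroupClass τ M] (ℳ : ℕ → τ)
  [SetLike.GradedSMul 𝒜 ℳ] [DirectSum.Decomposition ℳ]

theorem nonempty_coker_alpha :
    Nonempty ((DirectSum ℤ (fun n : ℤ => ((GrMod.tilde 𝒜 ℳ n).val.obj (op ⊤) : Type u)) ⧸
        AddSubgroup.closure (⋃ i : ℕ, Set.range (fun m : ℳ i =>
          DirectSum.of (fun n : ℤ => ((GrMod.tilde 𝒜 ℳ n).val.obj (op ⊤) : Type u)) (i : ℤ)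
            (GrMod.alpha 𝒜 ℳ i m)))) ≃+
      LocCoh.H (HomogeneousIdeal.irrelevant 𝒜).toIdeal 1 M) := by
  classical
  let X := natGMod 𝒜 ℳ
  let E : GrLC.StarInjRes (H1GrInt.intPieces 𝒜) X.gr := GrLib8.starRes X.gr
  let a := GrSyz.irrel (H1GrInt.intPieces 𝒜)
  let Γn : ℤ → Type u := fun n => ((GrMod.tilde 𝒜 ℳ n).val.obj (op ⊤) : Type u)
  let φ : ∀ n : ℤ, Γn n →+ E.H a 1 := fun n =>
    (conn 𝒜 E n).comp ((natIso 𝒜 ℳ n).hom.app ⊤).hom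
  let Φ : DirectSum ℤ Γn →+ E.H a 1 := DirectSum.toAddMonoid φ
  have hΦ : ∀ n (s : Γn n), Φ (DirectSum.of Γn n s) = φ n s := fun n s => DirectSum.toAddMonoid_of φ n s
  letI := (GrLib8.isInternal_Hgr X.gr E a 1).chooseDecomposition
  have hsurj : Function.Surjective Φ := fun y => by
    refine AddSubgroup.iSup_induction (fun g => E.Hgr a 1 g) (C := fun y => ∃ z, Φ z = y)
      (show y ∈ ⨆ g, E.Hgr a 1 g from GrLib8.mem_iSup_of_decomposition (E.Hgr a 1) y) ?_ ⟨0, map_zero _⟩ ?_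
    · intro g y hy
      obtain ⟨s, hs⟩ := exists_conn_eq 𝒜 E g hy
      refine ⟨DirectSum.of Γn g ((natIso 𝒜 ℳ g).inv.app ⊤ s), ?_⟩
      rw [hΦ]
      show conn 𝒜 E g ((natIso 𝒜 ℳ g).hom.app ⊤ ((natIso 𝒜 ℳ g).inv.app ⊤ s)) = y
      rw [show (natIso 𝒜 ℳ g).hom.app ⊤ ((natIso 𝒜 ℳ g).inv.app ⊤ s) = s from
        congrArg (fun ψ : T 𝒜 X g ⟶ T 𝒜 X g => ψ.app ⊤ s) (natIso 𝒜 ℳ g).inv_hom_id]
      exact hs
    · rintro _ _ ⟨z, rfl⟩ ⟨z', rfl⟩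
      exact ⟨z + z', map_add _ _ _⟩
  let K := AddSubgroup.closure (⋃ i : ℕ, Set.range (fun m : ℳ i =>
    DirectSum.of Γn (i : ℤ) (GrMod.alpha 𝒜 ℳ i m)))
  have hker : Φ.ker = K := by
    refine le_antisymm (fun z hz => ?_) ((AddSubgroup.closure_le _).2 ?_)
    · have hsum : ∑ n ∈ DFinsupp.support z, φ n (z n) = 0 := by
        conv_rhs => rw [← (show Φ z = 0 from hz), ← DirectSum.sum_support_of z, map_sum]
        exact Finset.sum_congr rfl fun n _ => (hΦ n _).symm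
      have hzero := GrLib8.gIndep_of_decomposition (E.Hgr a 1) (DFinsupp.support z) (fun n => φ n (z n))
        (fun n _ => conn_mem 𝒜 E n _) hsum
      rw [← DirectSum.sum_support_of z]
      refine AddSubgroup.sum_mem _ fun n hn => ?_
      obtain ⟨x, hx, hxs⟩ := exists_of_conn_eq_zero 𝒜 E n _ (hzero n hn)
      rcases lt_or_ge n 0 with hn0 | hn0
      · have hx0 : x = 0 := (show x ∈ H1GrInt.intPieces ℳ n from hx).2 hn0
        have hzn : z n = 0 := natIso_hom_injective 𝒜 ℳ n ⊤ (hxs.trans ((GrModX.ext_val 𝒜 (pieces X) fun y => by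
          rw [val_gsec, hx0, LocalizedModule.zero_mk]; rfl).trans (map_zero _).symm))
        rw [hzn, map_zero]
        exact zero_mem _
      · obtain ⟨i, rfl⟩ := Int.eq_ofNat_of_zero_le hn0
        refine AddSubgroup.subset_closure (Set.mem_iUnion.2 ⟨i, ⟨ofNat' 𝒜 ℳ x,
          (mem_natGMod_gr 𝒜 ℳ i _).1 hx⟩, congrArg _ ?_⟩)
        refine natIso_hom_injective 𝒜 ℳ (i : ℤ) ⊤ ?_
        exact (natIso_globalOf 𝒜 ℳ ⟨ofNat' 𝒜 ℳ x, (mem_natGMod_gr 𝒜 ℳ i _).1 hx⟩).trans hxs.symm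
    · rintro _ ⟨_, ⟨i, rfl⟩, m, rfl⟩
      show Φ (DirectSum.of Γn (i : ℤ) (GrMod.alpha 𝒜 ℳ i m)) = 0
      rw [hΦ]
      exact (congrArg (conn 𝒜 E (i : ℤ)) (natIso_globalOf 𝒜 ℳ m)).trans (conn_gsec 𝒜 E (i : ℤ) _)
  obtain ⟨e⟩ := GrLib8.nonempty_H_equiv _ E a 1
  have key : Nonempty ((DirectSum ℤ Γn ⧸ K) ≃+ ((localCohomology a.toIdeal 1).obj (ModuleCat.of A M) : Type u)) :=
    ⟨((QuotientAddGroup.quotientAddEquivOfEq hker.symm).trans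
      (QuotientAddGroup.quotientKerEquivOfSurjective Φ hsurj)).trans e.toAddEquiv⟩
  rw [irrel_intPieces] at key
  exact key

end Groth.Agent.H1GrSerre
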