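import Groth.Agent.H1GrSerre.Nat
import Groth.Agent.GrModX.QCohTilde
import Groth.Agent.QCoh.OpenSub
import Groth.Prelude.Def_ega3
import Groth.Prelude.Def_GrMod2
import Mathlib.RingTheory.Length

/-!
# The Euler characteristic of `M(n)~` for large `n`
-/

set_option autoImplicit false
set_option linter.unusedSectionVars false
set_option backward.isDefEq.respectTransparency false
set_option backward.isDefEq.respectTransparency.types false

noncomputable section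

universe u

open CategoryTheory CategoryTheory.Limits AlgebraicGeometry TopologicalSpace DirectSum Opposite
open HomogeneousLocalization

namespace Groth.Agent.H1GrSerre

open Groth.Agent

variable {A S : Type u} [CommRing A] [CommRing S] [Algebra A S] (𝒜 : ℕ → Submodule A S) [GradedAlgebra 𝒜]

/-- The structure map of `Proj` on a basic open sends a scalar to the constant fraction. -/
theorem appLE_scalar {g : S} {d : ℕ} (hg : g ∈ 𝒜 d) (hd : 0 < d) (c : A) :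
    (Proj.toSpecZero 𝒜 ≫ Spec.map (CommRingCat.ofHom (algebraMap A (𝒜 0)))).appLE ⊤ (Proj.basicOpen 𝒜 g) le_top
      ((Scheme.ΓSpecIso (CommRingCat.of A)).inv c) =
    (Proj.awayToSection 𝒜 g).hom (fromZeroRingHom 𝒜 _ (algebraMap A (𝒜 0) c)) := by
  set f := Proj.toSpecZero 𝒜 ≫ Spec.map (CommRingCat.ofHom (algebraMap A (𝒜 0))) with hf
  let D := Proj.basicOpen 𝒜 g
  have hι : D.ι ≫ f = Proj.basicOpenToSpec 𝒜 g ≫
      Spec.map (CommRingCat.ofHom (algebraMap A (𝒜 0)) ≫ CommRingCat.ofHom (fromZeroRingHom 𝒜 _)) := by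
    show (Proj.basicOpen 𝒜 g).ι ≫ f = _
    rw [hf, ← Proj.basicOpenIsoSpec_hom 𝒜 g hg hd, Spec.map_comp,
      ← Proj.awayι_toSpecZero_assoc 𝒜 g hg hd, ← Proj.basicOpenIsoSpec_inv_ι 𝒜 g hg hd,
      Category.assoc, Iso.hom_inv_id_assoc]
  clear_value f
  have h : (Scheme.ΓSpecIso (CommRingCat.of A)).inv ≫ f.appLE ⊤ D le_top ≫ D.topIso.inv =
      (CommRingCat.ofHom (algebraMap A (𝒜 0)) ≫ CommRingCat.ofHom (fromZeroRingHom 𝒜 _)) ≫
        Proj.awayToSection 𝒜 g ≫ D.topIso.inv := by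
    have h1 : (D.ι ≫ f).appTop = (Proj.basicOpenToSpec 𝒜 g ≫
        Spec.map (CommRingCat.ofHom (algebraMap A (𝒜 0)) ≫ CommRingCat.ofHom (fromZeroRingHom 𝒜 _))).appTop := by
      rw [hι]
    rw [Scheme.Hom.comp_appTop, Scheme.Hom.comp_appTop, show (Proj.basicOpenToSpec 𝒜 g).appTop = _ from
      Proj.basicOpenToSpec_app_top 𝒜 g] at h1
    have h2 := congrArg ((Scheme.ΓSpecIso (CommRingCat.of A)).inv ≫ ·) h1
    dsimp at h2
    rw [← Scheme.ΓSpecIso_inv_naturality_assoc, Iso.inv_hom_id_assoc] at h2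
    refine Eq.trans ?_ h2
    congr 1
  simp only [← Category.assoc, cancel_mono] at h
  exact congrArg (fun φ => φ.hom c) h

/-- A scalar as a global function. -/
abbrev scal (c : A) : Γ(Proj 𝒜, (⊤ : (Proj 𝒜).Opens)) :=
  Coh.resTop (Proj 𝒜) (op ⊤) (Coh.toGlobal (Proj 𝒜 ↘ Spec (CommRingCat.of A)) c)

theorem oval_scal (c : A) (y : (⊤ : (Proj 𝒜).Opens)) :
    (GrModX.oval 𝒜 (scal 𝒜 c) y).val = Localization.mk (algebraMap A S c) 1 := by
  obtain ⟨g, d, hd, hg, hy, -⟩ := GrModX.exists_basicOpen_le 𝒜 (V := ⊤) (y := y.1) trivial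
  exact (congrArg (fun z => (GrModX.oval 𝒜 (U := Proj.basicOpen 𝒜 g) z ⟨y.1, hy⟩).val)
    (appLE_scalar 𝒜 hg hd c) :)

variable {M : Type u} [AddCommGroup M] [Module A M] [Module S M] [IsScalarTower A S M] (ℳ : ℕ → Submodule A M)
  [DirectSum.Decomposition ℳ] [SetLike.GradedSMul 𝒜 ℳ]

/-- `m ↦ m / 1` into `H^0`. -/
def globH (n : ℕ) : ℳ n →ₗ[A] Coh.HH (Proj 𝒜) (GrTilde.tilde 𝒜 ℳ (n : ℤ)) 0 where
  toFun m := (Sheaf.H.equiv₀ (Coh.toAb (GrTilde.tilde 𝒜 ℳ (n : ℤ))) isTerminalTop).symm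
    (GrTilde.globalOf 𝒜 ℳ m)
  map_add' m m' := by
    rw [← map_add]
    refine congrArg _ ?_
    exact (GrMod.alpha 𝒜 ℳ n).map_add m m'
  map_smul' c m := by
    apply (Sheaf.H.equiv₀ (Coh.toAb (GrTilde.tilde 𝒜 ℳ (n : ℤ))) isTerminalTop).injective
    rw [AddEquiv.apply_symm_apply]
    refine Eq.trans ?_ (Sheaf.H.equiv₀_naturality isTerminalTop
      (Coh.smulAb (GrTilde.tilde 𝒜 ℳ (n : ℤ)) (Coh.toGlobal (Proj 𝒜 ↘ Spec (CommRingCat.of A)) c)) _)
    rw [AddEquiv.apply_symm_apply]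
    refine Eq.trans ?_ (Coh.smulAb_app (GrTilde.tilde 𝒜 ℳ (n : ℤ)) _ (op ⊤) _).symm
    refine GrModX.ext_val 𝒜 ℳ fun y => ?_
    refine Eq.trans ?_ (GrModX.val_smul 𝒜 ℳ (scal 𝒜 c) (GrMod.globalOf 𝒜 ℳ m) y).symm
    rw [oval_scal]
    show LocalizedModule.mk ((c • m : ℳ n) : M) 1 = Localization.mk (algebraMap A S c) 1 • LocalizedModule.mk (m : M) 1
    rw [LocalizedModule.mk_smul_mk, one_mul, Submodule.coe_smul, algebraMap_smul]

theorem bijective_globH {n : ℕ} (h : Function.Bijective (fun m : ℳ n => GrMod.globalOf 𝒜 ℳ m)) :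
    Function.Bijective (globH 𝒜 ℳ n) :=
  (Sheaf.H.equiv₀ (Coh.toAb (GrTilde.tilde 𝒜 ℳ (n : ℤ))) isTerminalTop).symm.bijective.comp h

variable [IsNoetherianRing S] [Module.Finite S M]

theorem exists_euler_eq_length (r : ℕ) :
    ∃ N : ℕ, ∀ n : ℕ, N ≤ n →
      ((Finset.range (r + 1)).sum fun j => (-1 : ℤ) ^ j *
          ((Module.length A (Coh.HH (Proj 𝒜) (GrTilde.tilde 𝒜 ℳ (n : ℤ)) j)).toNat : ℤ)) =
        ((Module.length A ↥(ℳ n)).toNat : ℤ) := by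
  classical
  obtain ⟨N₀, hN₀⟩ := exists_bijective_globalOf 𝒜 ℳ
  choose c hc using fun i => exists_hVan_natGMod 𝒜 ℳ i
  refine ⟨max N₀ ((Finset.range r).sup fun j => (c (j + 2) + 1).toNat), fun n hn => ?_⟩
  rw [Finset.sum_range_succ', Finset.sum_eq_zero, zero_add, pow_zero, one_mul]
  · rw [(LinearEquiv.ofBijective (globH 𝒜 ℳ n) (bijective_globH 𝒜 ℳ (hN₀ n (le_trans (le_max_left _ _) hn)))).length_eq]
  · intro j hj
    have hn2 : (c (j + 2) + 1).toNat ≤ n :=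
      le_trans (Finset.le_sup (f := fun j => (c (j + 2) + 1).toNat) hj) (le_trans (le_max_right _ _) hn)
    have h : Subsingleton (Coh.HH (Proj 𝒜) (GrTilde.tilde 𝒜 ℳ (n : ℤ)) (j + 1)) :=
      QCoh.subsingleton_HH_of_iso (natIso 𝒜 ℳ (n : ℤ)).symm (j + 1)
        ((subsingleton_HH_iff_hVan 𝒜 j _ _).2 (hc (j + 2) (n : ℤ) (by omega)))
    rw [Module.length_eq_zero_iff.2 h]
    simp

end Groth.Agent.H1GrSerre
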