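import Groth.Agent.PnCoh.Finite.TwistTensor
import Groth.Agent.PnCoh.Sections
import Groth.Prelude.Def_GrMod2

/-!
# `M~ ⊗ O(t) ≅ M(t)~` when the degree one elements cover
-/

set_option autoImplicit false
set_option backward.isDefEq.respectTransparency false
set_option backward.isDefEq.respectTransparency.types false

universe u

open CategoryTheory CategoryTheory.Limits AlgebraicGeometry TopologicalSpace Opposite MonoidalCategory
open Groth.Agent.KFlatLib Groth.Agent.PnCoh.Finite Groth.Agent.PnCoh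

namespace Groth.Agent.H1GrSerre

variable {R A : Type u} [CommRing R] [CommRing A] [Algebra R A]
  {𝒜 : ℕ → Submodule R A} [GradedAlgebra 𝒜]
variable {M : Type u} [AddCommGroup M] [Module R M] [Module A M] {ℳ : ℕ → Submodule R M}
  [SetLike.GradedSMul 𝒜 ℳ]

theorem smul_mem_tildeAt {a b c : ℤ} (h : a + b = c) {x : ProjectiveSpectrum 𝒜}
    {q : GrTilde.LocMod 𝒜 (M := M) x} {r : Twist.Loc 𝒜 x}
    (hq : q ∈ GrTilde.tildeAt 𝒜 ℳ a x) (hr : r ∈ Twist.twistAt 𝒜 b x) :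
    r • q ∈ GrTilde.tildeAt 𝒜 ℳ c x := by
  induction hq using Submodule.span_induction with
  | mem q hq =>
    induction hr using Submodule.span_induction with
    | mem r hr =>
      obtain ⟨i, j, m, s, hs, hij, rfl⟩ := hq
      obtain ⟨i', j', p, s', hs', hij', rfl⟩ := hr
      refine Submodule.subset_span ⟨i' + i, j' + j, ⟨p.1 • m.1, SetLike.GradedSMul.smul_mem p.2 m.2⟩,
        ⟨s'.1 * s.1, SetLike.mul_mem_graded s'.2 s.2⟩, mul_notMem hs' hs, by push_cast; omega, ?_⟩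
      rw [LocalizedModule.mk_smul_mk]
      rfl
    | zero => rw [zero_smul]; exact zero_mem _
    | add y z _ _ hy hz => rw [add_smul]; exact add_mem hy hz
    | smul d y _ hy =>
      rw [Algebra.smul_def, mul_smul]
      exact Submodule.smul_mem _ d hy
  | zero => rw [smul_zero]; exact zero_mem _
  | add y z _ _ hy hz => rw [smul_add]; exact add_mem hy hz
  | smul d y _ hy => rw [GrTilde.a0_smul_def, smul_comm]; exact Submodule.smul_mem _ d hy

/-- The product of a section of `M(a)~` and a section of `O(b)`. -/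
noncomputable def mulT {a b c : ℤ} (h : a + b = c) {U : (Opens (ProjectiveSpectrum.top 𝒜))ᵒᵖ}
    (s : GrTilde.sect 𝒜 ℳ a U) (t : Twist.sectN (𝒜 := 𝒜) b U) : GrTilde.sect 𝒜 ℳ c U :=
  ⟨fun x => ⟨(t.1 x).1 • (s.1 x).1, smul_mem_tildeAt h (s.1 x).2 (t.1 x).2⟩, fun x => by
    obtain ⟨V, hxV, iV, i, j, m, q, nq, hij, w⟩ := s.2 x
    obtain ⟨V', hxV', iV', i', j', p, q', nq', hij', w'⟩ := t.2 x
    refine ⟨V ⊓ V', ⟨hxV, hxV'⟩, Opens.infLELeft _ _ ≫ iV, i' + i, j' + j,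
      ⟨p.1 • m.1, SetLike.GradedSMul.smul_mem p.2 m.2⟩,
      ⟨q'.1 * q.1, SetLike.mul_mem_graded q'.2 q.2⟩,
      fun y => mul_notMem (nq' ⟨y.1, y.2.2⟩) (nq ⟨y.1, y.2.1⟩), ?_, fun y => ?_⟩
    · rcases hij with e | e
      · rcases hij' with e' | e'
        · exact Or.inl (by push_cast; omega)
        · exact Or.inr (show p.1 • m.1 = 0 by rw [e', zero_smul])
      · exact Or.inr (show p.1 • m.1 = 0 by rw [e, smul_zero])
    · show (t.1 (iV' ⟨y.1, y.2.2⟩)).1 • (s.1 (iV ⟨y.1, y.2.1⟩)).1 = _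
      rw [show (s.1 (iV ⟨y.1, y.2.1⟩)).1 = _ from w ⟨y.1, y.2.1⟩,
        show (t.1 (iV' ⟨y.1, y.2.2⟩)).1 = _ from w' ⟨y.1, y.2.2⟩, LocalizedModule.mk_smul_mk]
      rfl⟩

theorem mulT_smul_left {a b c : ℤ} (h : a + b = c) {U : (Opens (ProjectiveSpectrum.top 𝒜))ᵒᵖ} (z : Twist.O U)
    (s : GrTilde.sect 𝒜 ℳ a U) (t : Twist.sectN (𝒜 := 𝒜) b U) :
    mulT h (z • s) t = z • mulT h s t := by
  refine Subtype.ext (funext fun x => Subtype.ext ?_)
  show (t.1 x).1 • ((z.1 x • s.1 x : GrTilde.tildeAt 𝒜 ℳ a x.1)).1 =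
    ((z.1 x • (⟨(t.1 x).1 • (s.1 x).1, _⟩ : GrTilde.tildeAt 𝒜 ℳ c x.1) : GrTilde.tildeAt 𝒜 ℳ c x.1)).1
  rw [GrTilde.coe_smul_val, GrTilde.coe_smul_val, smul_comm]

theorem mulT_smul_right {a b c : ℤ} (h : a + b = c) {U : (Opens (ProjectiveSpectrum.top 𝒜))ᵒᵖ} (z : Twist.O U)
    (s : GrTilde.sect 𝒜 ℳ a U) (t : Twist.sectN (𝒜 := 𝒜) b U) :
    mulT h s (z • t) = z • mulT h s t := by
  refine Subtype.ext (funext fun x => Subtype.ext ?_)
  show ((z.1 x • t.1 x : Twist.twistAt 𝒜 b x.1)).1 • (s.1 x).1 =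
    ((z.1 x • (⟨(t.1 x).1 • (s.1 x).1, _⟩ : GrTilde.tildeAt 𝒜 ℳ c x.1) : GrTilde.tildeAt 𝒜 ℳ c x.1)).1
  rw [Submodule.coe_smul, GrTilde.coe_smul_val, Algebra.smul_def, mul_smul]
  rfl

/-- The multiplication map `M~ ⊗ O(b) → M(b)~` of presheaves. -/
noncomputable def mulTPre {a b c : ℤ} (h : a + b = c) :
    DCoh.toP.obj (GrTilde.tilde 𝒜 ℳ a) ⊗ DCoh.toP.obj (Twist.twist 𝒜 b) ⟶
      DCoh.toP.obj (GrTilde.tilde 𝒜 ℳ c) where
  app U := ModuleCat.MonoidalCategory.tensorLift (fun s t => mulT h s t)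
    (fun s s' t => Subtype.ext (funext fun x => Subtype.ext (smul_add (t.1 x).1 (s.1 x).1 (s'.1 x).1)))
    (fun z s t => mulT_smul_left h z s t)
    (fun s t t' => Subtype.ext (funext fun x => Subtype.ext (add_smul (t.1 x).1 (t'.1 x).1 (s.1 x).1)))
    (fun z s t => mulT_smul_right h z s t)
  naturality {U V} i := ModuleCat.MonoidalCategory.tensor_ext fun s t => rfl

theorem mulTPre_tm {a b c : ℤ} (h : a + b = c) {U : ((Proj 𝒜).Opens)ᵒᵖ}
    (s : (DCoh.toP.obj (GrTilde.tilde 𝒜 ℳ a)).obj U) (t : (DCoh.toP.obj (Twist.twist 𝒜 b)).obj U) :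
    (mulTPre (ℳ := ℳ) h).app U (tm s t) = mulT h s t := rfl

variable {f : A} (hf : f ∈ 𝒜 1) {x : (Proj 𝒜)}

theorem twPow_mul_twPow_neg (b : ℤ) {U : (Proj 𝒜).Opens} (hU : NonVan (𝒜 := 𝒜) f U) (y : U) :
    ((twPow hf (-b) hU).1 y).1 * ((twPow hf b hU).1 y).1 = 1 := by
  rw [twPow_apply, twPow_apply, Localization.mk_mul, ← Localization.mk_one, Localization.mk_eq_mk_iff,
    Localization.r_iff_exists]
  refine ⟨1, ?_⟩
  simp only [OneMemClass.coe_one, one_mul, mul_one, Submonoid.coe_mul, ← pow_add]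
  exact congrArg (f ^ ·) (by omega)

theorem mulT_mulT {a b c : ℤ} (h : a + b = c) (h' : c + -b = a) {U : (Proj 𝒜).Opens}
    (hU : NonVan (𝒜 := 𝒜) f U) (s : GrTilde.sect 𝒜 ℳ a (op U)) :
    mulT h' (mulT h s (twPow hf b hU)) (twPow hf (-b) hU) = s := by
  refine Subtype.ext (funext fun y => Subtype.ext ?_)
  show ((twPow hf (-b) hU).1 y).1 • (((twPow hf b hU).1 y).1 • (s.1 y).1) = _
  rw [← mul_smul, twPow_mul_twPow_neg, one_smul]

theorem mulT_mulT' {a b c : ℤ} (h : a + b = c) (h' : c + -b = a) {U : (Proj 𝒜).Opens}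
    (hU : NonVan (𝒜 := 𝒜) f U) (s : GrTilde.sect 𝒜 ℳ c (op U)) :
    mulT h (mulT h' s (twPow hf (-b) hU)) (twPow hf b hU) = s := by
  refine Subtype.ext (funext fun y => Subtype.ext ?_)
  show ((twPow hf b hU).1 y).1 • (((twPow hf (-b) hU).1 y).1 • (s.1 y).1) = _
  rw [← mul_smul, mul_comm, twPow_mul_twPow_neg, one_smul]

variable (hx : x ∈ D 𝒜 f)

include hf hx in
theorem isIso_stalk_mulTPre {a b c : ℤ} (h : a + b = c) :
    IsIso ((stalkP x).map (mulTPre (𝒜 := 𝒜) (ℳ := ℳ) h)) := by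
  rw [ConcreteCategory.isIso_iff_bijective]
  let eb := LinearEquiv.ofBijective _ (stalkGen_bijective hf hx b)
  let P := DCoh.toP.obj (GrTilde.tilde 𝒜 ℳ a)
  let Q := DCoh.toP.obj (Twist.twist 𝒜 b)
  let C := DCoh.toP.obj (GrTilde.tilde 𝒜 ℳ c)
  let L : (stalkMod x (P ⊗ Q) : Type u) →ₗ[(Proj 𝒜).presheaf.stalk x] (stalkMod x C : Type u) :=
    ((stalkP x).map (mulTPre h)).hom
  let θ : (stalkMod x P : Type u) ≃ₗ[(Proj 𝒜).presheaf.stalk x] (stalkMod x (P ⊗ Q) : Type u) :=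
    ((TensorProduct.rid _ _).symm.trans (TensorProduct.congr (LinearEquiv.refl _ _) eb)).trans
      (tensorStalkEquiv P Q)
  have key : ∀ (W : (Proj 𝒜).Opens) (hxW : x ∈ W) (hW : W ≤ D 𝒜 f) (s : P.obj (op W)),
      L (θ (germP P W hxW s)) = germP C W hxW (mulT h s (twPow hf b (nonVan_of_le hW))) := by
    intro W hxW hW s
    have hθ : θ (germP P W hxW s) = tensorStalkEquiv P Q (germP P W hxW s ⊗ₜ stalkGen hf hx b) := by
      show tensorStalkEquiv P Q ((TensorProduct.congr (LinearEquiv.refl _ _) eb)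
        ((TensorProduct.rid _ _).symm (germP P W hxW s))) = _
      rw [TensorProduct.rid_symm_apply, TensorProduct.congr_tmul]
      refine congrArg (fun z => tensorStalkEquiv P Q (_ ⊗ₜ z)) ?_
      show LinearMap.toSpanSingleton ((Proj 𝒜).presheaf.stalk x) _ (stalkGen hf hx b) 1 = _
      rw [LinearMap.toSpanSingleton_apply, one_smul]
    rw [hθ, stalkGen_eq hf hx b W hW hxW]
    refine Eq.trans (congrArg _ (ofTensor_germ W hxW _ _)) ?_
    refine (stalkModMap_germ (mulTPre h) W hxW _).trans ?_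
    exact congrArg (germP C W hxW) (mulTPre_tm h _ _)
  have hbij : Function.Bijective (L ∘ θ) := by
    refine ⟨fun m m' hmm' => ?_, fun z => ?_⟩
    · suffices ∀ m, L (θ m) = 0 → m = 0 by
        refine sub_eq_zero.1 (this _ ?_)
        rw [map_sub, map_sub]
        exact sub_eq_zero.2 hmm'
      intro m hm
      obtain ⟨W₀, hxW₀, s₀, rfl⟩ := exists_germP m
      let W := W₀ ⊓ D 𝒜 f
      have hW : W ≤ D 𝒜 f := inf_le_right
      have hxW : x ∈ W := ⟨hxW₀, hx⟩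
      rw [← germP_res (homOfLE inf_le_left : W ⟶ W₀) hxW s₀] at hm ⊢
      rw [key W hxW hW] at hm
      obtain ⟨W', hxW', j, j', hjj⟩ := TopCat.Presheaf.germ_eq (C := AddCommGrpCat.{u})
        C.presheaf x hxW hxW _ 0 (hm.trans (map_zero (germP C W hxW)).symm)
      let s' : P.obj (op W') := res P j (res P (homOfLE inf_le_left : W ⟶ W₀) s₀)
      have h0 : mulT h s' (twPow hf b (nonVan_of_le (j.le.trans hW))) = 0 := hjj.trans (map_zero _)
      have h1 : s' = 0 := by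
        refine (mulT_mulT hf h (by omega : c + -b = a) (nonVan_of_le (j.le.trans hW)) s').symm.trans ?_
        rw [h0]
        exact Subtype.ext (funext fun y => Subtype.ext (smul_zero _))
      rw [← germP_res j hxW']
      exact (congrArg (germP P W' hxW') h1).trans (map_zero _)
    · obtain ⟨W₀, hxW₀, s₀, rfl⟩ := exists_germP z
      let W := W₀ ⊓ D 𝒜 f
      have hW : W ≤ D 𝒜 f := inf_le_right
      have hxW : x ∈ W := ⟨hxW₀, hx⟩
      let s' : C.obj (op W) := res C (homOfLE inf_le_left : W ⟶ W₀) s₀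
      refine ⟨germP P W hxW (mulT (by omega : c + -b = a) s' (twPow hf (-b) (nonVan_of_le hW))), ?_⟩
      refine (key W hxW hW _).trans ?_
      rw [mulT_mulT']
      exact germP_res (homOfLE inf_le_left : W ⟶ W₀) hxW s₀
  show Function.Bijective ⇑L
  have e : ⇑L = (L ∘ θ) ∘ θ.symm := funext fun z => (congrArg L (θ.apply_symm_apply z)).symm
  rw [e]
  exact hbij.comp θ.symm.bijective

/-- The multiplication map `M~ ⊗ O(b) → M(b)~`. -/
noncomputable def mulTHom {a b c : ℤ} (h : a + b = c) :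
    CohB1.tensorMod (GrTilde.tilde 𝒜 ℳ a) (Twist.twist 𝒜 b) ⟶ GrTilde.tilde 𝒜 ℳ c :=
  ((PresheafOfModules.sheafificationAdjunction (𝟙 (Proj 𝒜).ringCatSheaf.obj)).homEquiv _ _).symm
    (mulTPre h)

variable {κ : Type*} (g : κ → A)

theorem isIso_mulTHom (hg : ∀ j, g j ∈ 𝒜 1) (hcov : ⨆ j, D 𝒜 (g j) = ⊤) {a b c : ℤ} (h : a + b = c) :
    IsIso (mulTHom (𝒜 := 𝒜) (ℳ := ℳ) h) := by
  apply isIso_of_stalk
  intro x
  obtain ⟨j, hj⟩ := Opens.mem_iSup.1 (hcov.ge (trivial : x ∈ (⊤ : (Proj 𝒜).Opens)))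
  have hu : unitShP (DCoh.toP.obj (GrTilde.tilde 𝒜 ℳ a) ⊗ DCoh.toP.obj (Twist.twist 𝒜 b)) ≫
      DCoh.toP.map (mulTHom (𝒜 := 𝒜) (ℳ := ℳ) h) = mulTPre h :=
    ((PresheafOfModules.sheafificationAdjunction (𝟙 (Proj 𝒜).ringCatSheaf.obj)).homEquiv_unit
      (f := mulTHom h)).symm.trans (Equiv.apply_symm_apply _ _)
  haveI : IsIso ((stalkP x).map (DCoh.toP.map (mulTHom (𝒜 := 𝒜) (ℳ := ℳ) h))) :=
    @IsIso.of_isIso_fac_left _ _ _ _ _
      ((stalkP x).map (unitShP (DCoh.toP.obj (GrTilde.tilde 𝒜 ℳ a) ⊗ DCoh.toP.obj (Twist.twist 𝒜 b))))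
      _ ((stalkP x).map (mulTPre h)) (isIso_stalk_unitShP _) (isIso_stalk_mulTPre (hg j) hj h)
      (((stalkP x).map_comp _ _).symm.trans (congrArg (fun φ => (stalkP x).map φ) hu))
  exact (NatIso.isIso_map_iff (stalkToPIso x) (mulTHom (𝒜 := 𝒜) (ℳ := ℳ) h)).2 this

end Groth.Agent.H1GrSerre
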