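import Groth.Agent.H1GrSerre.Serre
import Groth.Agent.H1GrSerre.Tensor
import Groth.Agent.GrLib8.HilbertFn
import Groth.Agent.LC.CohCech
import Groth.Agent.QCoh.OpenSub
import Groth.Prelude.Def_GrSyz
import Groth.Prelude.Def_Curv2
import Groth.Prelude.Def_Twist2

/-!
# Castelnuovo–Mumford regularity of `M~` on projective space
-/

set_option autoImplicit false
set_option linter.unusedSectionVars false
set_option backward.isDefEq.respectTransparency false
set_option backward.isDefEq.respectTransparency.types false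

noncomputable section

universe u

open CategoryTheory CategoryTheory.Limits AlgebraicGeometry TopologicalSpace DirectSum Opposite

namespace Groth.Agent.H1GrSerre

open Groth.Agent

variable {k : Type u} [Field k] {r : ℕ}

instance natPart_stdGr : NatPart (GrSyz.stdGr k (Fin (r + 1))) (CohB1.polyGrading r k) :=
  ⟨fun i a => by rw [GrLib8.stdGr_natCast]⟩

/-- Local cohomology vanishes above the number of variables. -/
theorem hVan_of_gt (X : GrLC.GMod.{u} (GrSyz.stdGr k (Fin (r + 1)))) (i : ℕ) (hi : r + 1 < i) (g : ℤ) :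
    GrLib8.HVan (GrSyz.irrel (GrSyz.stdGr k (Fin (r + 1)))) X i g := fun E => by
  classical
  let s : Finset (MvPolynomial (Fin (r + 1)) k) := Finset.univ.image MvPolynomial.X
  have hs : (GrSyz.irrel (GrSyz.stdGr k (Fin (r + 1)))).toIdeal = Ideal.span (s : Set (MvPolynomial (Fin (r + 1)) k)) := by
    have hs' : (s : Set (MvPolynomial (Fin (r + 1)) k)) = MvPolynomial.X '' (Set.univ : Set (Fin (r + 1))) := by
      simp [s, Set.image_univ]
    refine le_antisymm (Ideal.span_le.2 fun p ⟨m, hm, hp⟩ => ?_) (Ideal.span_le.2 ?_)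
    · rw [hs', SetLike.mem_coe, MvPolynomial.mem_ideal_span_X_image]
      intro d hd
      by_contra h
      push Not at h
      have hw := (GrSyz.mem_stdGr_iff k (Fin (r + 1)) m p).1 hp (MvPolynomial.mem_support_iff.1 hd)
      rw [show d = 0 from Finsupp.ext fun j => h j trivial, map_zero] at hw
      omega
    · rw [hs']
      rintro _ ⟨j, -, rfl⟩
      exact GrLib8.mem_irrel_of_pos _ one_pos (MvPolynomial.isWeightedHomogeneous_X k (fun _ : Fin (r + 1) => (1 : ℤ)) j)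
  obtain ⟨e⟩ := GrLib8.nonempty_H_equiv _ E (GrSyz.irrel (GrSyz.stdGr k (Fin (r + 1)))) i
  have hcard : s.card < i := lt_of_le_of_lt (Finset.card_image_le.trans (by simp)) hi
  have h := LC.subsingleton_of_card_lt s (ModuleCat.of _ X.carrier) i hcard
  rw [← hs] at h
  haveI : Subsingleton (E.H (GrSyz.irrel (GrSyz.stdGr k (Fin (r + 1)))) i) := e.toEquiv.subsingleton
  exact GrLib8.Hcomp_eq_bot_of_subsingleton E _ i g

variable {M : Type u} [AddCommGroup M] [Module k M] [Module (MvPolynomial (Fin (r + 1)) k) M]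
  (ℳ : ℤ → Submodule k M) [DirectSum.Decomposition ℳ] [SetLike.GradedSMul (GrSyz.stdGr k (Fin (r + 1))) ℳ]
  [SetLike.GradedSMul (CohB1.polyGrading r k) (fun n : ℕ => ℳ (n : ℤ))]

/-- The identity, into the bundled module. -/
def toG : M →ₗ[MvPolynomial (Fin (r + 1)) k] (GrLib8.gmodPieces (GrSyz.stdGr k (Fin (r + 1))) ℳ).carrier :=
  LinearMap.id

/-- The identity, out of the bundled module. -/
def ofG : (GrLib8.gmodPieces (GrSyz.stdGr k (Fin (r + 1))) ℳ).carrier →ₗ[MvPolynomial (Fin (r + 1)) k] M :=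
  LinearMap.id

/-- `M(t)~` in the two descriptions. -/
def tildeIso (t : ℤ) :
    GrMod.tilde (CohB1.polyGrading r k) (fun n : ℕ => ℳ (n : ℤ)) t ≅
      T (CohB1.polyGrading r k) (GrLib8.gmodPieces (GrSyz.stdGr k (Fin (r + 1))) ℳ) t where
  hom := GrMod.map (CohB1.polyGrading r k)
    (ℳ := fun n : ℕ => ℳ (n : ℤ))
    (N := (GrLib8.gmodPieces (GrSyz.stdGr k (Fin (r + 1))) ℳ).carrier)
    (𝒩 := pieces (GrLib8.gmodPieces (GrSyz.stdGr k (Fin (r + 1))) ℳ))
    (toG ℳ) (fun i m hm => hm) t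
  inv := GrMod.map (CohB1.polyGrading r k)
    (M := (GrLib8.gmodPieces (GrSyz.stdGr k (Fin (r + 1))) ℳ).carrier)
    (ℳ := pieces (GrLib8.gmodPieces (GrSyz.stdGr k (Fin (r + 1))) ℳ))
    (𝒩 := fun n : ℕ => ℳ (n : ℤ))
    (ofG ℳ) (fun i m hm => hm) t
  hom_inv_id := by
    refine Scheme.Modules.hom_ext _ _ fun U => ?_
    ext s
    refine GrModX.ext_val _ _ fun y => ?_
    refine ((GrMod.map_app_val _ _ t U _ y).trans (congrArg _ (GrMod.map_app_val _ _ t U s y))).trans ?_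
    obtain ⟨⟨m, v⟩, hmv⟩ := Quotient.exists_rep (GrMod.val s y)
    change _ = GrMod.val s y
    rw [← hmv]
    exact (congrArg _ (GrMod.locMap_mk _ _ m v)).trans (GrMod.locMap_mk _ _ m v)
  inv_hom_id := by
    refine Scheme.Modules.hom_ext _ _ fun U => ?_
    ext s
    refine GrModX.ext_val _ _ fun y => ?_
    refine ((GrMod.map_app_val _ _ t U _ y).trans (congrArg _ (GrMod.map_app_val _ _ t U s y))).trans ?_
    obtain ⟨⟨m, v⟩, hmv⟩ := Quotient.exists_rep (GrMod.val s y)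
    change _ = GrMod.val s y
    rw [← hmv]
    exact (congrArg _ (GrMod.locMap_mk _ _ m v)).trans (GrMod.locMap_mk _ _ m v)

/-- The twist of `M~` is `M(t)~`. -/
theorem nonempty_tensor_iso (t : ℤ) :
    Nonempty (CohB1.tensorMod (X := CohB1.ProjSpace r k)
        (GrTilde.tilde (CohB1.polyGrading r k) (fun n : ℕ => ℳ (n : ℤ)) 0) (Twist.twistProjSpace r k t) ≅
      T (CohB1.polyGrading r k) (GrLib8.gmodPieces (GrSyz.stdGr k (Fin (r + 1))) ℳ) t) := by
  haveI := isIso_mulTHom (𝒜 := CohB1.polyGrading r k) (ℳ := fun n : ℕ => ℳ (n : ℤ))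
    (fun j : Fin (r + 1) => (MvPolynomial.X j : MvPolynomial (Fin (r + 1)) k))
    (fun j => MvPolynomial.isHomogeneous_X k j) PnCoh.iSup_mOpen_single (zero_add t)
  exact ⟨(asIso (mulTHom (𝒜 := CohB1.polyGrading r k) (ℳ := fun n : ℕ => ℳ (n : ℤ)) (zero_add t))).trans
    (tildeIso ℳ t)⟩

theorem subsingleton_HH_iff (t : ℤ) (i : ℕ) :
    Subsingleton (Coh.HH (CohB1.ProjSpace r k) (CohB1.tensorMod
        (GrTilde.tilde (CohB1.polyGrading r k) (fun n : ℕ => ℳ (n : ℤ)) 0) (Twist.twistProjSpace r k t)) (i + 1)) ↔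
      GrLib8.HVan (GrSyz.irrel (GrSyz.stdGr k (Fin (r + 1))))
        (GrLib8.gmodPieces (GrSyz.stdGr k (Fin (r + 1))) ℳ) (i + 2) t := by
  obtain ⟨e⟩ := nonempty_tensor_iso (r := r) ℳ t
  rw [← subsingleton_HH_iff_hVan (CohB1.polyGrading r k) i _ t]
  exact ⟨fun h => QCoh.subsingleton_HH_of_iso (X := Proj (CohB1.polyGrading r k)) e (i + 1) h,
    fun h => QCoh.subsingleton_HH_of_iso (X := Proj (CohB1.polyGrading r k)) e.symm (i + 1) h⟩

theorem surjective_globalOf_iff (d : ℕ) :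
    Function.Surjective (fun m : ↥(ℳ ((d : ℕ) : ℤ)) =>
        GrTilde.globalOf (CohB1.polyGrading r k) (fun n : ℕ => ℳ (n : ℤ)) m) ↔
      GrLib8.HVan (GrSyz.irrel (GrSyz.stdGr k (Fin (r + 1))))
        (GrLib8.gmodPieces (GrSyz.stdGr k (Fin (r + 1))) ℳ) 1 d := by
  rw [← surjGr_iff_hVan_one (CohB1.polyGrading r k)]
  let X := GrLib8.gmodPieces (GrSyz.stdGr k (Fin (r + 1))) ℳ
  let e := tildeIso (r := r) ℳ (d : ℤ)
  have he : ∀ m : ↥(ℳ ((d : ℕ) : ℤ)), e.hom.app ⊤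
      (GrTilde.globalOf (CohB1.polyGrading r k) (fun n : ℕ => ℳ (n : ℤ)) m) =
        gsec (CohB1.polyGrading r k) (X := X) (show (m : M) ∈ X.gr (d : ℤ) from m.2) ⊤ := fun m =>
    GrModX.ext_val _ _ fun y => (GrMod.map_app_val _ _ (d : ℤ) ⊤ _ y).trans (GrMod.locMap_mk _ _ _ _)
  have hinv : ∀ s, e.inv.app ⊤ (e.hom.app ⊤ s) = s := fun s =>
    congrArg (fun φ : GrMod.tilde (CohB1.polyGrading r k) (fun n : ℕ => ℳ (n : ℤ)) (d : ℤ) ⟶ _ => φ.app ⊤ s)
      e.hom_inv_id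
  constructor
  · intro h s
    obtain ⟨m, hm⟩ := h (e.inv.app ⊤ s)
    have hs : e.hom.app ⊤ (e.inv.app ⊤ s) = s :=
      congrArg (fun φ : T (CohB1.polyGrading r k) X (d : ℤ) ⟶ _ => φ.app ⊤ s) e.inv_hom_id
    exact ⟨(m : M), m.2, hs.symm.trans ((congrArg (e.hom.app ⊤) hm.symm).trans (he m))⟩
  · intro h s
    obtain ⟨x, hx, hs⟩ := h (e.hom.app ⊤ s)
    refine ⟨⟨x, hx⟩, ?_⟩
    exact (hinv _).symm.trans ((congrArg (e.inv.app ⊤) ((he ⟨x, hx⟩).trans hs.symm)).trans (hinv s))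

variable [IsScalarTower k (MvPolynomial (Fin (r + 1)) k) M] [Module.Finite (MvPolynomial (Fin (r + 1)) k) M]

theorem isMRegular_of_regBd {d : ℤ}
    (h : GrLib8.RegBd (GrSyz.irrel (GrSyz.stdGr k (Fin (r + 1))))
      (GrLib8.gmodPieces (GrSyz.stdGr k (Fin (r + 1))) ℳ) d) :
    Curv2.IsMRegular k r (GrTilde.tilde (CohB1.polyGrading r k) (fun n : ℕ => ℳ (n : ℤ)) 0) d := by
  intro i hi1 hi2
  obtain ⟨j, rfl⟩ := Nat.exists_eq_add_of_le hi1
  rw [Nat.add_comm 1 j] at *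
  exact (subsingleton_HH_iff (r := r) ℳ _ j).2 (h _ _ (by push_cast; omega))

theorem regBd_diag_iff (E : GrLC.StarInjRes (GrSyz.stdGr k (Fin (r + 1))) ℳ) (d : ℕ) :
    (GrLC.endDeg (E.Hgr (GrSyz.irrel (GrSyz.stdGr k (Fin (r + 1)))) 0) ≤ (((d : ℤ) : WithTop ℤ) : WithBot (WithTop ℤ)) ∧
        ∀ i : ℕ, 0 < i → E.Hcomp (GrSyz.irrel (GrSyz.stdGr k (Fin (r + 1)))) i ((d : ℤ) - (i : ℤ) + 1) = ⊥) ↔
      (Curv2.IsMRegular k r (GrTilde.tilde (CohB1.polyGrading r k) (fun n : ℕ => ℳ (n : ℤ)) 0) (d : ℤ) ∧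
        (∀ e : ℤ, (d : ℤ) < e → E.Hcomp (GrSyz.irrel (GrSyz.stdGr k (Fin (r + 1)))) 0 e = ⊥) ∧
        Function.Surjective (fun m : ↥(ℳ ((d : ℕ) : ℤ)) =>
          GrTilde.globalOf (CohB1.polyGrading r k) (fun n : ℕ => ℳ (n : ℤ)) m)) := by
  constructor
  · intro h
    have hR := (GrLib8.regBd_iff_diag E (GrLib8.irrel_le_span_one k (r + 1)) (d : ℤ)).2 h
    exact ⟨isMRegular_of_regBd (r := r) ℳ hR, fun e he => (GrLib8.hVan_of_pieces_res E).1 (hR 0 e (by simpa using he)),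
      (surjective_globalOf_iff (r := r) ℳ d).2 (hR 1 d (by push_cast; omega))⟩
  · rintro ⟨h1, h2, h3⟩
    refine ⟨(GrLib8.endDeg_le_iff _ _).2 fun g hg => (GrLib8.Hgr_eq_bot_iff E _ 0 g).2 (h2 g hg), fun i hi => ?_⟩
    refine (GrLib8.hVan_of_pieces_res E).1 ?_
    rcases i with _ | _ | j
    · omega
    · have h := (surjective_globalOf_iff (r := r) ℳ d).1 h3
      rwa [show (d : ℤ) - ((0 + 1 : ℕ) : ℤ) + 1 = d by push_cast; ring]
    · rcases Nat.lt_or_ge r (j + 1) with hjr | hjr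
      · exact hVan_of_gt _ _ (by omega) _
      · have h := (subsingleton_HH_iff (r := r) ℳ _ j).1 (h1 (j + 1) (Nat.le_add_left 1 j) hjr)
        rwa [show (d : ℤ) - ((j + 1 + 1 : ℕ) : ℤ) + 1 = (d : ℤ) - ((j + 1 : ℕ) : ℤ) by push_cast; ring]

end Groth.Agent.H1GrSerre
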